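import Mathlib
import Cfsg.Prelude.Def_PLocal
import Cfsg.Agent.Lib.Cores.Basic
import Cfsg.Agent.Lib.Suzuki.Count

/-!
Lower bounds for the index of the fixed points of an element on a faithful elementary abelian
`p`-group, from an element of large prime power order in the group of two conjugates.
-/

set_option autoImplicit false

namespace CfsgLib.LocalEven.FaithfulBound

open Subgroup Cfsg
open scoped commutatorElement

variable {G : Type*} [Group G] [Finite G] {p : ℕ} [hp : Fact p.Prime]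

/-- An element of order `r ^ (a + 1)` whose power of order `r` moves `V` and which fixes `C`
forces the index of `C` in `V` to be large. -/
theorem relIndex_of_element {V : Subgroup G} (hV : IsElementaryAbelian p V) {z : G}
    (hz : z ∈ normalizer (V : Set G)) {r a : ℕ} [hr : Fact r.Prime] (hrp : r ≠ p)
    (ho : orderOf z = r ^ (a + 1)) (hnt : ∃ v ∈ V, z ^ (r ^ a) * v ≠ v * z ^ (r ^ a))
    {C : Subgroup G} (hCV : C ≤ V) (hC : ∀ c ∈ C, z * c = c * z) :
    ∃ k, 0 < k ∧ r ^ (a + 1) ∣ p ^ k - 1 ∧ p ^ k ≤ C.relIndex V := by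
  classical
  set z₀ := z ^ (r ^ a) with hz₀
  have hz₀r : z₀ ^ r = 1 := by rw [hz₀, ← pow_mul, ← pow_succ, ← ho, pow_orderOf_eq_one]
  have hcomm : ∀ x ∈ V, ∀ y ∈ V, x * y = y * x := fun x hx y hy =>
    congrArg Subtype.val (hV.1.1.comm (⟨x, hx⟩ : V) ⟨y, hy⟩)
  have hn : ∀ g ∈ normalizer (V : Set G), ∀ x ∈ V, g * x * g⁻¹ ∈ V := fun g hg x hx =>
    (Subgroup.mem_normalizer_iff.1 hg x).1 hx
  have hz₀n : z₀ ∈ normalizer (V : Set G) := Subgroup.pow_mem _ hz _
  let f : ↥V →* ↥V :=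
    { toFun := fun v => ⟨z₀ * v * z₀⁻¹ * (v : G)⁻¹, V.mul_mem (hn z₀ hz₀n v v.2) (V.inv_mem v.2)⟩
      map_one' := by ext; simp
      map_mul' := fun v w => by
        ext
        simp only [Subgroup.coe_mul]
        calc z₀ * (v * w) * z₀⁻¹ * ((v : G) * w)⁻¹
            = z₀ * v * z₀⁻¹ * ((z₀ * w * z₀⁻¹ * (w : G)⁻¹) * (v : G)⁻¹) := by group
          _ = z₀ * v * z₀⁻¹ * ((v : G)⁻¹ * (z₀ * w * z₀⁻¹ * (w : G)⁻¹)) := by
            rw [hcomm _ (V.mul_mem (hn z₀ hz₀n w w.2) (V.inv_mem w.2)) _ (V.inv_mem v.2)]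
          _ = z₀ * v * z₀⁻¹ * (v : G)⁻¹ * (z₀ * w * z₀⁻¹ * (w : G)⁻¹) := by group }
  -- nontrivial fixed points do not lie in the range
  have hfree : ∀ w ∈ f.range, z₀ * (w : G) * z₀⁻¹ = w → w = 1 := by
    rintro _ ⟨v, rfl⟩ hw
    set u : G := z₀ * v * z₀⁻¹ * (v : G)⁻¹ with hu
    have hu' : ((f v : ↥V) : G) = u := rfl
    rw [hu'] at hw
    have huV : u ∈ V := hu' ▸ (f v).2
    have hstep : ∀ j : ℕ, z₀ ^ j * v * (z₀ ^ j)⁻¹ = u ^ j * v := by
      intro j
      induction j with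
      | zero => simp
      | succ j ih =>
        calc z₀ ^ (j + 1) * v * (z₀ ^ (j + 1))⁻¹ = z₀ * (z₀ ^ j * v * (z₀ ^ j)⁻¹) * z₀⁻¹ := by
              rw [pow_succ']; group
          _ = (z₀ * u * z₀⁻¹) ^ j * (z₀ * v * z₀⁻¹) := by rw [ih, conj_pow]; group
          _ = u ^ (j + 1) * v := by rw [hw, pow_succ, hu]; group
    have h1 := hstep r
    rw [hz₀r, one_mul, inv_one, mul_one] at h1
    have hur : u ^ r = 1 := mul_right_cancel (h1.symm.trans (one_mul _).symm)
    have hu1 : u = 1 := by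
      rw [← orderOf_eq_one_iff]
      exact Nat.eq_one_of_dvd_coprimes ((Nat.coprime_primes hr.out hp.out).2 hrp)
        (orderOf_dvd_of_pow_eq_one hur) (orderOf_dvd_of_pow_eq_one (hV.2 u huV))
    exact Subtype.ext (hu'.trans hu1)
  -- `z` acts freely on the nontrivial elements of the range
  have hzrange : ∀ g ∈ Subgroup.zpowers z, ∀ w : ↥V, ∀ hg : g * w * g⁻¹ ∈ V,
      w ∈ f.range → (⟨g * w * g⁻¹, hg⟩ : ↥V) ∈ f.range := by
    rintro g hg' w hg ⟨v, rfl⟩
    have hgn : g ∈ normalizer (V : Set G) := (Subgroup.zpowers_le.2 hz) hg'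
    have hgz : g * z₀ = z₀ * g := by
      obtain ⟨i, rfl⟩ := Subgroup.mem_zpowers_iff.1 hg'
      exact (((Commute.refl z).zpow_left i).pow_right _).eq
    refine ⟨⟨g * v * g⁻¹, hn g hgn v v.2⟩, Subtype.ext ?_⟩
    show z₀ * (g * v * g⁻¹) * z₀⁻¹ * (g * (v : G) * g⁻¹)⁻¹ = g * (z₀ * v * z₀⁻¹ * (v : G)⁻¹) * g⁻¹
    calc z₀ * (g * v * g⁻¹) * z₀⁻¹ * (g * (v : G) * g⁻¹)⁻¹
        = (z₀ * g) * v * (z₀ * g)⁻¹ * (g * (v : G)⁻¹ * g⁻¹) := by group
      _ = (g * z₀) * v * (g * z₀)⁻¹ * (g * (v : G)⁻¹ * g⁻¹) := by rw [hgz]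
      _ = g * (z₀ * v * z₀⁻¹ * (v : G)⁻¹) * g⁻¹ := by group
  let X := {w : ↥V // w ∈ f.range ∧ w ≠ 1}
  letI act : MulAction ↥(Subgroup.zpowers z) X :=
    { smul := fun g w => ⟨⟨g * (w.1 : G) * (g : G)⁻¹, hn g ((Subgroup.zpowers_le.2 hz) g.2) _ w.1.2⟩,
        hzrange g g.2 _ _ w.2.1, fun h => w.2.2 (Subtype.ext (conj_eq_one_iff.1 (congrArg Subtype.val h)))⟩
      one_smul := fun w => Subtype.ext (Subtype.ext (show (1 : G) * _ * (1 : G)⁻¹ = _ by simp))
      mul_smul := fun g h w => Subtype.ext (Subtype.ext (show (g * h : G) * _ * ((g : G) * h)⁻¹ =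
        g * ((h : G) * _ * (h : G)⁻¹) * (g : G)⁻¹ by group)) }
  have hstab : ∀ w : X, MulAction.stabilizer ↥(Subgroup.zpowers z) w = ⊥ := by
    intro w
    rw [Subgroup.eq_bot_iff_forall]
    rintro ⟨g, hg⟩ hgw
    have hgw' : g * (w.1 : G) * g⁻¹ = w.1 :=
      congrArg Subtype.val (congrArg Subtype.val (MulAction.mem_stabilizer_iff.1 hgw))
    by_contra hg1
    have hg1' : g ≠ 1 := fun h => hg1 (Subtype.ext h)
    -- the power of order `r` lies in `⟨g⟩`
    have hmem : z₀ ∈ Subgroup.zpowers g := by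
      haveI : IsCyclic ↥(Subgroup.zpowers z) := Subgroup.isCyclic_zpowers z
      have hdvd : orderOf g ∣ r ^ (a + 1) := ho ▸ orderOf_dvd_of_mem_zpowers hg
      obtain ⟨i, -, hi⟩ := (Nat.dvd_prime_pow hr.out).1 hdvd
      have hi0 : i ≠ 0 := by
        rintro rfl
        exact hg1' (orderOf_eq_one_iff.1 (by rw [hi, pow_zero]))
      obtain ⟨j, rfl⟩ := Subgroup.mem_zpowers_iff.1 hg
      -- the unique subgroup of order `r`
      set K := (Subgroup.zpowers (z ^ j)).subgroupOf (Subgroup.zpowers z) with hK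
      have hzK : ∀ x : ↥(Subgroup.zpowers z), x ^ r = 1 → x ∈ K := by
        intro x hx
        have hcardK : Nat.card ↥K = r ^ i := by
          rw [hK, Nat.card_congr (Subgroup.subgroupOfEquivOfLe
            (Subgroup.zpowers_le.2 (Subgroup.zpow_mem _ (Subgroup.mem_zpowers z) j))).toEquiv,
            Nat.card_zpowers, hi]
        obtain ⟨y, hy⟩ := exists_prime_orderOf_dvd_card' (G := ↥K) r
          (by rw [hcardK]; exact dvd_pow_self r hi0)
        rw [← Subgroup.orderOf_coe] at hy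
        have hmem : x ∈ Subgroup.zpowers (y : ↥(Subgroup.zpowers z)) :=
          CfsgLib.Suzuki.mem_zpowers_of_pow_eq_one (by rw [hy, hx])
        exact (Subgroup.zpowers_le.2 y.2) hmem
      exact hzK ⟨z₀, Subgroup.pow_mem _ (Subgroup.mem_zpowers z) _⟩ (Subtype.ext hz₀r)
    refine w.2.2 (hfree _ w.2.1 ?_)
    have hc : g ∈ Subgroup.centralizer {(w.1 : G)} :=
      Subgroup.mem_centralizer_singleton_iff.2 (mul_inv_eq_iff_eq_mul.1 hgw')
    exact mul_inv_eq_iff_eq_mul.2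
      (Subgroup.mem_centralizer_singleton_iff.1 ((Subgroup.zpowers_le.2 hc) hmem))
  have hXdvd : r ^ (a + 1) ∣ Nat.card X := by
    rw [Nat.card_congr (MulAction.selfEquivOrbitsQuotientProd hstab), Nat.card_prod, Nat.card_zpowers, ho]
    exact dvd_mul_left _ _
  have hXcard : Nat.card X + 1 = Nat.card ↥f.range := by
    have hinj : Function.Injective (fun o : Option X =>
        (o.elim (1 : ↥f.range) fun w => ⟨w.1, w.2.1⟩)) := by
      rintro (_ | w) (_ | w') h
      · rfl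
      · exact absurd (congrArg Subtype.val h).symm w'.2.2
      · exact absurd (congrArg Subtype.val h) w.2.2
      · exact congrArg some (Subtype.ext (Subtype.mk.inj h))
    have hsurj : Function.Surjective (fun o : Option X =>
        (o.elim (1 : ↥f.range) fun w => ⟨w.1, w.2.1⟩)) := by
      intro w
      by_cases h : (w : ↥V) = 1
      · exact ⟨none, Subtype.ext h.symm⟩
      · exact ⟨some ⟨w, w.2, h⟩, rfl⟩
    rw [← Finite.card_option (α := X), Nat.card_eq_of_bijective _ ⟨hinj, hsurj⟩]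
  have hVp : IsPGroup p ↥V := fun v => ⟨1, Subtype.ext (by simpa using hV.2 v v.2)⟩
  obtain ⟨k, hk⟩ := IsPGroup.iff_card.1 (hVp.to_subgroup f.range)
  refine ⟨k, Nat.pos_of_ne_zero ?_, ?_, ?_⟩
  · rintro rfl
    obtain ⟨v, hv, hne⟩ := hnt
    refine hne (mul_inv_eq_iff_eq_mul.1 ?_)
    have hbot : f.range = ⊥ := Subgroup.eq_bot_of_card_eq _ (by rw [hk, pow_zero])
    have hm : f ⟨v, hv⟩ ∈ f.range := ⟨⟨v, hv⟩, rfl⟩
    rw [hbot, Subgroup.mem_bot] at hm
    have this : z₀ * v * z₀⁻¹ * v⁻¹ = 1 := congrArg (Subtype.val : ↥V → G) hm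
    exact mul_inv_eq_one.1 this
  · rw [← hk, ← hXcard, Nat.add_sub_cancel]
    exact hXdvd
  · rw [← hk, ← Subgroup.index_ker]
    have hle : C.subgroupOf V ≤ f.ker := fun c hc => Subtype.ext (by
      have hc' : (c : G) ∈ C := hc
      have hcz : z₀ * (c : G) = c * z₀ := (Commute.pow_left (show Commute z c from hC _ hc') _).eq
      show z₀ * c * z₀⁻¹ * (c : G)⁻¹ = 1
      rw [hcz, mul_inv_cancel_right, mul_inv_cancel])
    exact Subgroup.index_antitone hle

/-- The bound coming from an element of large order in the product of two conjugates. -/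
theorem pair_bound {Q : Type*} [Group Q] {V H : Subgroup G} (hV : IsElementaryAbelian p V)
    (hHV : H ≤ normalizer (V : Set G)) (hf : H ⊓ Subgroup.centralizer (V : Set G) = ⊥)
    (π : ↥H →* Q) (s g : ↥H) {r a d : ℕ} [hr : Fact r.Prime] (hrp : r ≠ p)
    (hord : r ^ (a + 1) ∣ orderOf (π (s * (g * s * g⁻¹))))
    (hmin : ∀ k, 0 < k → r ^ (a + 1) ∣ p ^ k - 1 → d ≤ k) :
    p ^ d ≤ Nat.card ↥V ∧
      p ^ d ≤ ((V ⊓ Subgroup.centralizer {(s : G)}).relIndex V) ^ 2 := by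
  set e := s * (g * s * g⁻¹) with he
  have hdvd : r ^ (a + 1) ∣ orderOf e := hord.trans (orderOf_map_dvd π e)
  set z := e ^ (orderOf e / r ^ (a + 1)) with hz
  have hzo : orderOf z = r ^ (a + 1) := orderOf_pow_orderOf_div (orderOf_pos e).ne' hdvd
  have hzo' : orderOf (z : G) = r ^ (a + 1) := by rw [Subgroup.orderOf_coe, hzo]
  set C₁ := V ⊓ Subgroup.centralizer {(s : G)} with hC₁
  set C₂ := C₁.map (MulAut.conj (g : G)).toMonoidHom with hC₂
  have hVg : V.map (MulAut.conj (g : G)).toMonoidHom = V :=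
    Subgroup.eq_of_le_of_card_ge (by
      rintro _ ⟨v, hv, rfl⟩
      exact (Subgroup.mem_normalizer_iff.1 (hHV g.2) v).1 hv)
      (Subgroup.card_map_of_injective (MulAut.conj (g : G)).injective).ge
  have hrel : C₂.relIndex V = C₁.relIndex V := by
    conv_lhs => rw [hC₂, ← hVg]
    exact Subgroup.relIndex_map_map_of_injective _ _ (MulAut.conj (g : G)).injective
  have hzC : ∀ c ∈ C₁ ⊓ C₂, (z : G) * c = c * z := by
    intro c hc
    obtain ⟨hc1, d', hd', hdc⟩ := hc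
    have h1 : (s : G) * c = c * s := (Subgroup.mem_centralizer_singleton_iff.1 hc1.2).symm
    have h2 : ((g : G) * s * (g : G)⁻¹) * c = c * ((g : G) * s * (g : G)⁻¹) := by
      have hd2 : d' * (s : G) = s * d' := Subgroup.mem_centralizer_singleton_iff.1 hd'.2
      have hc' : (g : G) * d' * (g : G)⁻¹ = c := hdc
      calc ((g : G) * s * (g : G)⁻¹) * c = g * (s * d') * (g : G)⁻¹ := by rw [← hc']; group
        _ = g * (d' * s) * (g : G)⁻¹ := by rw [hd2]
        _ = c * ((g : G) * s * (g : G)⁻¹) := by rw [← hc']; group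
    have hec : Commute (e : G) c := by
      rw [he]; push_cast
      exact Commute.mul_left h1 h2
    rw [hz, Subgroup.coe_pow]
    exact (hec.pow_left _).eq
  have hnt : ∃ v ∈ V, (z : G) ^ (r ^ a) * v ≠ v * (z : G) ^ (r ^ a) := by
    by_contra hcon
    push Not at hcon
    have hmem : (z : G) ^ (r ^ a) ∈ H ⊓ Subgroup.centralizer (V : Set G) :=
      ⟨Subgroup.pow_mem _ z.2 _, Subgroup.mem_centralizer_iff.2 fun v hv => (hcon v hv).symm⟩
    rw [hf, Subgroup.mem_bot, ← orderOf_dvd_iff_pow_eq_one, hzo'] at hmem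
    exact absurd ((Nat.pow_dvd_pow_iff_le_right hr.out.one_lt).1 hmem) (by omega)
  obtain ⟨k, hk0, hkd, hk⟩ := relIndex_of_element hV (hHV z.2) hrp hzo' hnt
    (inf_le_left.trans inf_le_left : C₁ ⊓ C₂ ≤ V) hzC
  have hpd : p ^ d ≤ p ^ k := Nat.pow_le_pow_right hp.out.pos (hmin k hk0 hkd)
  refine ⟨hpd.trans (hk.trans ?_), hpd.trans (hk.trans ?_)⟩
  · haveI : Finite ↥V := inferInstance
    exact Nat.le_of_dvd Nat.card_pos (Subgroup.relIndex_dvd_card _ _)
  · refine Subgroup.relIndex_inf_le.trans ?_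
    rw [hrel, pow_two]

/-- Elements of the subgroup outside the kernel of the reduction modulo the core. -/
theorem map_ne_one {Q : Type*} [Group Q] {H : Subgroup G}
    (e : ↥H ⧸ pPrimeCore p ↥H ≃* Q) [(pPrimeCore p ↥H).Normal] {s : ↥H} (hs : s ≠ 1)
    (hsp : ∃ k, s ^ (p ^ k) = 1) :
    e.toMonoidHom.comp (QuotientGroup.mk' (pPrimeCore p ↥H)) s ≠ 1 := by
  intro h
  have h1 : (QuotientGroup.mk' (pPrimeCore p ↥H)) s = 1 := e.injective (h.trans (map_one e).symm)
  have hmem : s ∈ pPrimeCore p ↥H := (QuotientGroup.eq_one_iff s).1 h1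
  obtain ⟨k, hk⟩ := hsp
  refine hs (orderOf_eq_one_iff.1 (Nat.eq_one_of_dvd_coprimes ?_
    (Subgroup.orderOf_dvd_natCard _ hmem) (orderOf_dvd_of_pow_eq_one hk)))
  exact (CfsgLib.Cores.coprime_card_pPrimeCore p).pow_right k

end CfsgLib.LocalEven.FaithfulBound
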