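import Mathlib
import Cfsg.Agent.Lib.Recognition.Zsigmondy
import Cfsg.Agent.Lib.Classical.GLOrder

/-!
In `PSL₂(2ⁿ)` every involution and a conjugate of it have a product of order divisible by a
primitive prime power divisor of `2²ⁿ - 1`.
-/

set_option autoImplicit false

namespace CfsgLib.LocalEven.FaithfulBound

open Matrix

/-- A prime divisor of `2ⁿ + 1` at which `2` has order `2n`. -/
theorem exists_primitive {n : ℕ} (hn : 2 ≤ n) (h3 : n ≠ 3) : ∃ r : ℕ, r.Prime ∧ r ≠ 2 ∧
    r ∣ 2 ^ n + 1 ∧ ¬ r ∣ 2 ^ n - 1 ∧ ∀ k, 0 < k → r ∣ 2 ^ k - 1 → 2 * n ≤ k := by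
  obtain ⟨r, hr, hd, hmin⟩ : ∃ r : ℕ, r.Prime ∧ r ∣ 2 ^ (2 * n) - 1 ∧
      ∀ i, 1 ≤ i → i < 2 * n → ¬ r ∣ 2 ^ i - 1 := by
    by_cases hexc : (2 * n, 2) ∈ CfsgLib.Recognition.Zsigmondy.exceptions
    · simp [CfsgLib.Recognition.Zsigmondy.exceptions] at hexc
      have hn' : n = 2 ∨ n = 5 ∨ n = 6 ∨ n = 9 := by omega
      rcases hn' with rfl | rfl | rfl | rfl
      · exact ⟨5, by norm_num, by norm_num, fun i h1 h2 => by interval_cases i <;> norm_num⟩
      · exact ⟨11, by norm_num, by norm_num, fun i h1 h2 => by interval_cases i <;> norm_num⟩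
      · exact ⟨13, by norm_num, by norm_num, fun i h1 h2 => by interval_cases i <;> norm_num⟩
      · exact ⟨19, by norm_num, by norm_num, fun i h1 h2 => by interval_cases i <;> norm_num⟩
    · obtain ⟨r, hr, hd, hmin, -⟩ := CfsgLib.Recognition.Zsigmondy.exists_large_primitive
        (n := 2 * n) (q := 2) (by omega) le_rfl hexc
      exact ⟨r, hr, hd, hmin⟩
  have hnd := hmin n (by omega) (by omega)
  have h2n : 2 ^ (2 * n) - 1 = (2 ^ n + 1) * (2 ^ n - 1) := by
    rw [← Nat.sq_sub_sq, one_pow, ← pow_mul, mul_comm n]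
  rw [h2n] at hd
  refine ⟨r, hr, ?_, (hr.dvd_mul.1 hd).resolve_right hnd, hnd, fun k hk hkd => ?_⟩
  · rintro rfl
    have h1 : 2 ∣ 2 ^ n + 1 := (hr.dvd_mul.1 hd).resolve_right hnd
    have h2 : 2 ∣ 2 ^ n := dvd_pow_self 2 (by omega)
    omega
  · by_contra hlt
    exact hmin k hk (by omega) hkd

variable {F : Type*} [Field F]

local notation "S₂" => Matrix.SpecialLinearGroup (Fin 2) F

/-- Upper elementary matrix. -/
def upper (t : F) : S₂ := ⟨!![1, t; 0, 1], by simp [Matrix.det_fin_two]⟩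

/-- Lower elementary matrix. -/
def lower (t : F) : S₂ := ⟨!![1, 0; t, 1], by simp [Matrix.det_fin_two]⟩

theorem sl_mul_apply (x y : S₂) (i j : Fin 2) :
    (x * y).1 i j = x.1 i 0 * y.1 0 j + x.1 i 1 * y.1 1 j := by
  rw [Matrix.SpecialLinearGroup.coe_mul, Matrix.mul_apply, Fin.sum_univ_two]

theorem upper00 (t : F) : (upper t).1 0 0 = 1 := rfl
theorem upper01 (t : F) : (upper t).1 0 1 = t := rfl
theorem upper10 (t : F) : (upper t).1 1 0 = 0 := rfl
theorem upper11 (t : F) : (upper t).1 1 1 = 1 := rfl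
theorem lower00 (t : F) : (lower t).1 0 0 = 1 := rfl
theorem lower01 (t : F) : (lower t).1 0 1 = 0 := rfl
theorem lower10 (t : F) : (lower t).1 1 0 = t := rfl
theorem lower11 (t : F) : (lower t).1 1 1 = 1 := rfl

theorem sl_ext {x y : S₂} (h00 : x.1 0 0 = y.1 0 0) (h01 : x.1 0 1 = y.1 0 1)
    (h10 : x.1 1 0 = y.1 1 0) (h11 : x.1 1 1 = y.1 1 1) : x = y := by
  ext i j
  fin_cases i <;> fin_cases j <;> assumption

theorem det_eq_one (x : S₂) : x.1 0 0 * x.1 1 1 - x.1 0 1 * x.1 1 0 = 1 := by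
  have := x.2
  rwa [Matrix.det_fin_two] at this

/-- Powers are linear expressions with coefficients depending only on the trace. -/
theorem pow_coeffs (T : F) (k : ℕ) : ∃ α β : F, ∀ x : S₂, x.1 0 0 + x.1 1 1 = T →
    (x ^ k).1 = α • x.1 + β • (1 : Matrix (Fin 2) (Fin 2) F) := by
  induction k with
  | zero => exact ⟨0, 1, fun x _ => by simp⟩
  | succ k ih =>
    obtain ⟨α, β, h⟩ := ih
    refine ⟨α * T + β, -α, fun x hx => ?_⟩
    rw [pow_succ, Matrix.SpecialLinearGroup.coe_mul, h x hx]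
    have hd := det_eq_one x
    ext i j
    fin_cases i <;> fin_cases j <;> simp [Matrix.mul_apply, Fin.sum_univ_two]
    · linear_combination (α * x.1 0 0) * hx - α * hd
    · linear_combination (α * x.1 0 1) * hx
    · linear_combination (α * x.1 1 0) * hx
    · linear_combination (α * x.1 1 1) * hx - α * hd

/-- Two non-scalar elements with the same trace have the same order. -/
theorem orderOf_eq_of_trace {x y : S₂}
    (hx : ¬ (x.1 0 1 = 0 ∧ x.1 1 0 = 0 ∧ x.1 0 0 = x.1 1 1))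
    (hy : ¬ (y.1 0 1 = 0 ∧ y.1 1 0 = 0 ∧ y.1 0 0 = y.1 1 1))
    (htr : x.1 0 0 + x.1 1 1 = y.1 0 0 + y.1 1 1) : orderOf x = orderOf y := by
  rw [orderOf_eq_orderOf_iff]
  intro k
  obtain ⟨α, β, h⟩ := pow_coeffs (y.1 0 0 + y.1 1 1) k
  have key : ∀ z : S₂, z.1 0 0 + z.1 1 1 = y.1 0 0 + y.1 1 1 →
      ¬ (z.1 0 1 = 0 ∧ z.1 1 0 = 0 ∧ z.1 0 0 = z.1 1 1) → (z ^ k = 1 ↔ α = 0 ∧ β = 1) := by
    intro z hz hns
    constructor
    · intro hk
      have e := h z hz
      rw [hk, Matrix.SpecialLinearGroup.coe_one] at e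
      have e01 := congrFun (congrFun e 0) 1
      have e10 := congrFun (congrFun e 1) 0
      have e00 := congrFun (congrFun e 0) 0
      have e11 := congrFun (congrFun e 1) 1
      simp at e01 e10 e00 e11
      have hα : α = 0 := by
        by_contra hα
        refine hns ⟨?_, ?_, ?_⟩
        · exact e01.resolve_left hα
        · exact e10.resolve_left hα
        · exact mul_left_cancel₀ hα (by linear_combination e11 - e00)
      subst hα
      exact ⟨rfl, by simpa using e00.symm⟩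
    · rintro ⟨rfl, rfl⟩
      exact Subtype.ext (by rw [h z hz]; simp)
  rw [key x htr hx, key y rfl hy]

variable [CharP F 2] [Finite F]

theorem conj_upper_one {x : S₂} (hx : x * x = 1) (hx1 : x ≠ 1) :
    ∃ k : S₂, k * upper 1 * k⁻¹ = x := by
  have h2 : (2 : F) = 0 := CharTwo.two_eq_zero
  have hd := det_eq_one x
  have hsq := congrArg Subtype.val hx
  rw [Matrix.SpecialLinearGroup.coe_mul, Matrix.SpecialLinearGroup.coe_one] at hsq
  have h00 := congrFun (congrFun hsq 0) 0
  have h01 := congrFun (congrFun hsq 0) 1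
  have h10 := congrFun (congrFun hsq 1) 0
  simp [Matrix.mul_apply, Fin.sum_univ_two] at h00 h01 h10
  have hdiag : x.1 0 0 = x.1 1 1 := by
    by_contra hne
    have hne' : x.1 0 0 + x.1 1 1 ≠ 0 := fun e => hne (by linear_combination e - x.1 1 1 * h2)
    have hb : x.1 0 1 = 0 := by
      have : x.1 0 1 * (x.1 0 0 + x.1 1 1) = 0 := by linear_combination h01
      exact (mul_eq_zero.1 this).resolve_right hne'
    rw [hb] at h00 hd
    have ha : x.1 0 0 = 1 := by
      have : (x.1 0 0 + 1) * (x.1 0 0 + 1) = 0 := by linear_combination h00 + (x.1 0 0 + 1) * h2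
      have := mul_self_eq_zero.1 this
      linear_combination this - h2
    refine hne ?_
    rw [ha] at hd ⊢
    linear_combination -hd
  -- solve with a fixed vector
  obtain ⟨σ, hσ⟩ : ∃ σ : F → F, ∀ u, σ u ^ 2 = u :=
    ⟨Function.surjInv ((Finite.injective_iff_surjective (f := fun u : F => u ^ 2)).1
      CharTwo.sq_injective), Function.surjInv_eq _⟩
  by_cases hc : x.1 1 0 = 0
  · have ha : x.1 0 0 = 1 := by
      rw [hc, ← hdiag] at hd
      have : (x.1 0 0 + 1) * (x.1 0 0 + 1) = 0 := by linear_combination hd + (x.1 0 0 + 1) * h2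
      linear_combination mul_self_eq_zero.1 this - h2
    have hb : x.1 0 1 ≠ 0 := fun hb => hx1 (sl_ext (by simpa using ha) (by simpa using hb)
      (by simpa using hc) (by simpa [← hdiag] using ha))
    set s := σ (x.1 0 1) with hs
    have hs0 : s ≠ 0 := fun e => hb (by rw [← hσ (x.1 0 1), ← hs, e]; ring)
    obtain ⟨P, p00, p01, p10, p11⟩ : ∃ P : S₂,
        P.1 0 0 = s ∧ P.1 0 1 = 0 ∧ P.1 1 0 = 0 ∧ P.1 1 1 = s⁻¹ :=
      ⟨⟨!![s, 0; 0, s⁻¹], by simp [Matrix.det_fin_two, hs0]⟩, rfl, rfl, rfl, rfl⟩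
    refine ⟨P, ?_⟩
    apply mul_inv_eq_iff_eq_mul.2
    refine sl_ext ?_ ?_ ?_ ?_ <;>
      simp [sl_mul_apply, upper00, upper01, upper10, upper11, ha, hc,
        ← hdiag, p00, p01, p10, p11]
    field_simp
    rw [← hσ (x.1 0 1), hs]
  · set s := σ (x.1 1 0) with hs
    have hs0 : s ≠ 0 := fun e => hc (by rw [← hσ (x.1 1 0), ← hs, e]; ring)
    have hs2 : s ^ 2 = x.1 1 0 := hσ _
    obtain ⟨P, p00, p01, p10, p11⟩ : ∃ P : S₂,
        P.1 0 0 = (x.1 0 0 + 1) * s⁻¹ ∧ P.1 0 1 = s⁻¹ ∧ P.1 1 0 = s ∧ P.1 1 1 = 0 :=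
      ⟨⟨!![(x.1 0 0 + 1) * s⁻¹, s⁻¹; s, 0], by
        rw [Matrix.det_fin_two]; simp [hs0]; linear_combination -h2⟩, rfl, rfl, rfl, rfl⟩
    refine ⟨P, ?_⟩
    apply mul_inv_eq_iff_eq_mul.2
    rw [← hdiag] at hd
    refine sl_ext ?_ ?_ ?_ ?_ <;>
      simp [sl_mul_apply, upper00, upper01, upper10, upper11, ← hdiag,
        p00, p01, p10, p11] <;> field_simp
    · linear_combination -hd - x.1 0 1 * hs2 - (x.1 0 1 * x.1 1 0) * h2
    · linear_combination h2
    · linear_combination (1 - x.1 0 0) * hs2 - x.1 0 0 * x.1 1 0 * h2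
    · linear_combination hs2

/-- An element of the wanted order and nonzero trace. -/
theorem exists_element {n : ℕ} [Fintype F] (hF : Fintype.card F = 2 ^ n) (hn : 2 ≤ n) :
    ∃ (r a : ℕ) (T : F), r.Prime ∧ r ≠ 2 ∧ T ≠ 0 ∧
      (∀ k, 0 < k → r ^ (a + 1) ∣ 2 ^ k - 1 → 2 * n ≤ k) ∧
      ∀ x : S₂, ¬ (x.1 0 1 = 0 ∧ x.1 1 0 = 0 ∧ x.1 0 0 = x.1 1 1) → x.1 0 0 + x.1 1 1 = T →
        r ^ (a + 1) ∣ orderOf x := by
  have h2 : (2 : F) = 0 := CharTwo.two_eq_zero
  by_cases h3 : n = 3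
  · subst h3
    -- a root of `X³ + X + 1`
    obtain ⟨c, hc⟩ : ∃ c : F, c ^ 3 = c + 1 := by
      classical
      obtain ⟨u, -, hu⟩ := Finset.exists_mem_notMem_of_card_lt_card
        (s := ({0, 1} : Finset F)) (t := Finset.univ)
        (lt_of_le_of_lt (Finset.card_insert_le _ _) (by simp [Finset.card_univ, hF]))
      simp at hu
      have hu8 := FiniteField.pow_card u
      rw [hF] at hu8
      have hfac : u * (u - 1) * ((u ^ 3 + u + 1) * (u ^ 3 + u ^ 2 + 1)) = 0 := by
        linear_combination hu8 + (u ^ 5 - u ^ 4) * h2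
      rcases mul_eq_zero.1 ((mul_eq_zero.1 hfac).resolve_left
        (mul_ne_zero hu.1 (sub_ne_zero.2 hu.2))) with h | h
      · exact ⟨u, by linear_combination h - (u + 1) * h2⟩
      · refine ⟨u⁻¹, ?_⟩
        have hu0 := hu.1
        field_simp
        linear_combination -h + h2
    have hc0 : c ≠ 0 := fun e => by simp [e] at hc
    refine ⟨3, 1, c, Nat.prime_three, by norm_num, hc0, fun k hk hkd => ?_, fun x hx hT => ?_⟩
    · by_contra hlt
      have : k < 6 := by omega
      interval_cases k <;> norm_num at hkd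
    · have hd := det_eq_one x
      set K := x * x * x with hK
      have hKtr : K.1 0 0 + K.1 1 1 = 1 := by
        simp only [hK, Matrix.SpecialLinearGroup.coe_mul, Matrix.mul_apply, Fin.sum_univ_two]
        rw [← hT] at hc
        linear_combination hc - 3 * (x.1 0 0 + x.1 1 1) * hd - (x.1 0 0 + x.1 1 1) * h2
      have hK1 : K ≠ 1 := fun e => by
        rw [e, Matrix.SpecialLinearGroup.coe_one] at hKtr
        simp at hKtr
      have hK3 : K ^ 3 = 1 := by
        have hKd := det_eq_one K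
        apply Subtype.ext
        rw [pow_succ, pow_two, Matrix.SpecialLinearGroup.coe_mul, Matrix.SpecialLinearGroup.coe_mul,
          Matrix.SpecialLinearGroup.coe_one]
        ext i j
        fin_cases i <;> fin_cases j <;> simp [Matrix.mul_apply, Fin.sum_univ_two]
        · linear_combination (K.1 0 0 * K.1 0 0 + K.1 0 1 * K.1 1 0) * 0 +
            (K.1 0 0 * (K.1 0 0 + K.1 1 1 + 1) - 1) * hKtr - (K.1 0 0 + K.1 0 0 + K.1 1 1) * hKd - h2
        · linear_combination (K.1 0 1 * (K.1 0 0 + K.1 1 1 + 1)) * hKtr - K.1 0 1 * hKd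
        · linear_combination (K.1 1 0 * (K.1 0 0 + K.1 1 1 + 1)) * hKtr - K.1 1 0 * hKd
        · linear_combination (K.1 1 1 * (K.1 0 0 + K.1 1 1 + 1) - 1) * hKtr -
            (K.1 1 1 + K.1 0 0 + K.1 1 1) * hKd - h2
      haveI := Fact.mk Nat.prime_three
      have hK' : K = x ^ 3 := by rw [hK, pow_succ, pow_two]
      rw [hK'] at hK1 hK3
      rw [show (3 : ℕ) ^ (1 + 1) = 3 ^ (1 + 1) from rfl,
        orderOf_eq_prime_pow (n := 1) (by simpa using hK1) (by rw [pow_succ, pow_one, pow_mul]; exact hK3)]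
  · obtain ⟨r, hr, hr2, hrd, hrnd, hmin⟩ := exists_primitive hn h3
    haveI := Fact.mk hr
    have hcard := CfsgLib.Classical.card_SL_mul hF 2 (by norm_num)
    rw [Fin.prod_univ_two] at hcard
    simp only [Fin.val_zero, Fin.val_one, pow_zero, pow_one] at hcard
    have hdvd : r ∣ Nat.card S₂ := by
      have h1 : r ∣ (2 ^ n - 1) * Nat.card S₂ := by
        rw [hcard]
        refine Dvd.dvd.mul_right ?_ _
        rw [← one_pow (M := ℕ) 2, Nat.sq_sub_sq]
        exact hrd.mul_right _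
      exact (hr.dvd_mul.1 h1).resolve_left hrnd
    obtain ⟨d, hd⟩ := exists_prime_orderOf_dvd_card' (G := S₂) r hdvd
    have hdd := det_eq_one d
    have hns : ¬ (d.1 0 1 = 0 ∧ d.1 1 0 = 0 ∧ d.1 0 0 = d.1 1 1) := by
      rintro ⟨hb, hc, he⟩
      rw [hb, hc, ← he] at hdd
      have ha : d.1 0 0 = 1 := by
        have : (d.1 0 0 + 1) * (d.1 0 0 + 1) = 0 := by linear_combination hdd + (d.1 0 0 + 1) * h2
        linear_combination mul_self_eq_zero.1 this - h2
      have : d = 1 := sl_ext (by simpa using ha) (by simpa using hb) (by simpa using hc)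
        (by simpa [← he] using ha)
      rw [this, orderOf_one] at hd
      exact hr.one_lt.ne hd
    have hT : d.1 0 0 + d.1 1 1 ≠ 0 := fun hT => by
      have hsq : d ^ 2 = 1 := by
        rw [pow_two]
        refine sl_ext ?_ ?_ ?_ ?_ <;> simp [Matrix.mul_apply, Fin.sum_univ_two]
        · linear_combination d.1 0 0 * hT - hdd - h2 * (1 - 1) + (0 : F) - h2 * 1
        · linear_combination d.1 0 1 * hT
        · linear_combination d.1 1 0 * hT
        · linear_combination d.1 1 1 * hT - hdd - h2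
      have hle := Nat.le_of_dvd (by norm_num) (hd ▸ orderOf_dvd_of_pow_eq_one hsq)
      have := hr.two_le
      omega
    refine ⟨r, 0, d.1 0 0 + d.1 1 1, hr, hr2, hT, fun k hk hkd => hmin k hk (by simpa using hkd),
      fun x hx htr => ?_⟩
    rw [zero_add, pow_one, orderOf_eq_of_trace hx hns htr, hd]

/-- Every involution of `PSL₂(2ⁿ)` has a conjugate with which its product has order divisible by a
prime power at which `2` has order at least `2n`. -/
theorem psl2_pair {n : ℕ} [Fintype F] (hF : Fintype.card F = 2 ^ n) (hn : 2 ≤ n) :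
    ∃ r a : ℕ, r.Prime ∧ r ≠ 2 ∧ (∀ k, 0 < k → r ^ (a + 1) ∣ 2 ^ k - 1 → 2 * n ≤ k) ∧
      ∀ u : ProjectiveSpecialLinearGroup (Fin 2) F, u * u = 1 → u ≠ 1 →
        ∃ g, r ^ (a + 1) ∣ orderOf (u * (g * u * g⁻¹)) := by
  obtain ⟨r, a, T, hr, hr2, hT, hmin, hord⟩ := exists_element (F := F) hF hn
  refine ⟨r, a, hr, hr2, hmin, fun u hu hu1 => ?_⟩
  set π : S₂ →* ProjectiveSpecialLinearGroup (Fin 2) F := QuotientGroup.mk' _ with hπ
  have hinj : Function.Injective π := by
    rw [← MonoidHom.ker_eq_bot_iff, hπ, QuotientGroup.ker_mk']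
    refine Subgroup.eq_bot_of_card_eq _ ?_
    rw [CfsgLib.Classical.card_center_SL, Fintype.card_fin, CfsgLib.Classical.card_units_eq hF]
    refine Nat.coprime_two_left.2 ?_
    obtain ⟨m, hm⟩ : ∃ m, 2 ^ n = 2 * m := dvd_pow_self 2 (by omega)
    have := Nat.two_pow_pos n
    exact ⟨m - 1, by omega⟩
  obtain ⟨x, rfl⟩ := QuotientGroup.mk'_surjective _ u
  change π x * π x = 1 at hu
  rw [← map_mul, ← map_one π] at hu
  have hx1 : x ≠ 1 := fun h => hu1 (by rw [h, map_one])
  obtain ⟨k, hk⟩ := conj_upper_one (hinj hu) hx1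
  obtain ⟨m, hm⟩ := conj_upper_one (x := lower T)
    (sl_ext (by simp [sl_mul_apply, upper00, upper01, upper10, upper11, lower00, lower01, lower10, lower11])
      (by simp [sl_mul_apply, upper00, upper01, upper10, upper11, lower00, lower01, lower10, lower11])
      (by simp [sl_mul_apply, upper00, upper01, upper10, upper11, lower00, lower01, lower10, lower11, CharTwo.add_self_eq_zero])
      (by simp [sl_mul_apply, upper00, upper01, upper10, upper11, lower00, lower01, lower10, lower11]))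
    (fun e => hT (by simpa [lower10] using congrArg (fun z : S₂ => z.1 1 0) e))
  refine ⟨π (k * m * k⁻¹), ?_⟩
  change r ^ (a + 1) ∣ orderOf (π x * (π (k * m * k⁻¹) * π x * (π (k * m * k⁻¹))⁻¹))
  rw [← map_mul, ← map_inv, ← map_mul, ← map_mul, orderOf_injective π hinj]
  have he : x * (k * m * k⁻¹ * x * (k * m * k⁻¹)⁻¹) = k * (upper 1 * lower T) * k⁻¹ := by
    rw [← hk, ← hm]; group
  rw [he, orderOf_eq_orderOf_iff.2 (fun j => by rw [conj_pow, conj_eq_one_iff] :
    ∀ j : ℕ, (k * (upper 1 * lower T) * k⁻¹) ^ j = 1 ↔ (upper 1 * lower T) ^ j = 1)]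
  refine hord _ ?_ ?_
  · simp [sl_mul_apply, upper00, upper01, upper10, upper11, lower00, lower01, lower10, lower11]
  · simp [sl_mul_apply, upper00, upper01, upper10, upper11, lower00, lower01, lower10, lower11]
    linear_combination (CharTwo.two_eq_zero : (2 : F) = 0)

end CfsgLib.LocalEven.FaithfulBound
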