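import Cfsg.Agent.Lib.LocalEven.FaithfulBound.ModelL2

/-!
In `PSL₂(pⁿ)`, `p` odd, every element of order `p` and a conjugate of it have a product of order
divisible by a prime at which `p` has order `2n`.
-/

set_option autoImplicit false

namespace CfsgLib.LocalEven.FaithfulBound

open Matrix

/-- A prime divisor of `p ^ (2n) - 1` at which `p` has order `2n`. -/
theorem exists_primitive_odd {p n : ℕ} (hp : p.Prime) (hp2 : p ≠ 2) (hn : 2 ≤ n) :
    ∃ r : ℕ, r.Prime ∧ r ≠ 2 ∧ r ≠ p ∧ r ∣ p ^ (2 * n) - 1 ∧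
      ∀ k, 0 < k → r ∣ p ^ k - 1 → 2 * n ≤ k := by
  have hp3 : 3 ≤ p := by have := hp.two_le; omega
  obtain ⟨r, hr, hd, hmin⟩ : ∃ r : ℕ, r.Prime ∧ r ∣ p ^ (2 * n) - 1 ∧
      ∀ i, 1 ≤ i → i < 2 * n → ¬ r ∣ p ^ i - 1 := by
    by_cases hexc : (2 * n, p) ∈ CfsgLib.Recognition.Zsigmondy.exceptions
    · simp [CfsgLib.Recognition.Zsigmondy.exceptions] at hexc
      have hn' : (n = 2 ∧ p = 3) ∨ (n = 3 ∧ p = 3) ∨ (n = 3 ∧ p = 5) := by omega
      rcases hn' with ⟨rfl, rfl⟩ | ⟨rfl, rfl⟩ | ⟨rfl, rfl⟩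
      · exact ⟨5, by norm_num, by norm_num, fun i h1 h2 => by interval_cases i <;> norm_num⟩
      · exact ⟨7, by norm_num, by norm_num, fun i h1 h2 => by interval_cases i <;> norm_num⟩
      · exact ⟨7, by norm_num, by norm_num, fun i h1 h2 => by interval_cases i <;> norm_num⟩
    · obtain ⟨r, hr, hd, hmin, -⟩ := CfsgLib.Recognition.Zsigmondy.exists_large_primitive
        (n := 2 * n) (q := p) (by omega) (by omega) hexc
      exact ⟨r, hr, hd, hmin⟩
  refine ⟨r, hr, ?_, ?_, hd, fun k hk hkd => by by_contra hlt; exact hmin k hk (by omega) hkd⟩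
  · rintro rfl
    have := hp.eq_two_or_odd.resolve_left hp2
    exact hmin 1 le_rfl (by omega) (by rw [pow_one]; omega)
  · rintro rfl
    have h1 : r ∣ r ^ (2 * n) := dvd_pow_self r (by omega)
    have h2 := Nat.dvd_sub h1 hd
    rw [Nat.sub_sub_self (Nat.one_le_pow _ _ hr.pos)] at h2
    exact hr.one_lt.ne' (Nat.dvd_one.1 h2)

variable {F : Type*} [Field F]

local notation "S₂" => Matrix.SpecialLinearGroup (Fin 2) F

/-- An element of order dividing the characteristic has trace two. -/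
theorem trace_of_pow_char {p : ℕ} [Fact p.Prime] [CharP F p] {x : S₂} (hx : x ^ p = 1) :
    x.1 0 0 + x.1 1 1 = 2 := by
  have h1 : x.1 ^ p = 1 := by rw [← Matrix.SpecialLinearGroup.coe_pow, hx]; rfl
  have h2 : (x.1 - 1) ^ p = 0 := by
    rw [sub_pow_char_of_commute (p := p) (Commute.one_right x.1), h1, one_pow, sub_self]
  have h3 : (x.1 - 1).det ^ p = 0 := by
    rw [← Matrix.det_pow, h2]; simp
  have h4 := pow_eq_zero_iff (Fact.out (p := p.Prime)).ne_zero |>.1 h3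
  have hd := det_eq_one x
  rw [Matrix.det_fin_two] at h4
  simp at h4
  linear_combination hd - h4

/-- An element of trace two is conjugate to an upper elementary matrix. -/
theorem conj_upper_of_trace {x : S₂} (hx : x.1 0 0 + x.1 1 1 = 2) (hx1 : x ≠ 1) :
    ∃ (P : S₂) (c : F), c ≠ 0 ∧ P * upper c * P⁻¹ = x := by
  have hd := det_eq_one x
  by_cases hc : x.1 1 0 = 0
  · rw [hc, mul_zero, sub_zero] at hd
    have ha : x.1 0 0 = 1 := by
      have : (x.1 0 0 - 1) * (x.1 0 0 - 1) = 0 := by linear_combination x.1 0 0 * hx - hd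
      exact sub_eq_zero.1 (mul_self_eq_zero.1 this)
    have hb : x.1 1 1 = 1 := by rw [ha, one_mul] at hd; exact hd
    refine ⟨1, x.1 0 1, fun h0 => hx1 (sl_ext (by simpa using ha) (by simpa using h0)
      (by simpa using hc) (by simpa using hb)), ?_⟩
    simp only [one_mul, inv_one, mul_one]
    refine sl_ext ?_ ?_ ?_ ?_ <;> simp [upper00, upper01, upper10, upper11, ha, hb, hc]
  · obtain ⟨P, p00, p01, p10, p11⟩ : ∃ P : S₂, P.1 0 0 = x.1 0 0 - 1 ∧ P.1 0 1 = -(x.1 1 0)⁻¹ ∧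
        P.1 1 0 = x.1 1 0 ∧ P.1 1 1 = 0 :=
      ⟨⟨!![x.1 0 0 - 1, -(x.1 1 0)⁻¹; x.1 1 0, 0], by simp [Matrix.det_fin_two, hc]⟩,
        rfl, rfl, rfl, rfl⟩
    refine ⟨P, -(x.1 1 0)⁻¹, neg_ne_zero.2 (inv_ne_zero hc), ?_⟩
    apply mul_inv_eq_iff_eq_mul.2
    refine sl_ext ?_ ?_ ?_ ?_ <;>
      simp [sl_mul_apply, upper00, upper01, upper10, upper11, p00, p01, p10, p11] <;> field_simp
    · linear_combination hd - x.1 0 0 * hx
    · ring
    · linear_combination -hx

/-- A lower elementary matrix is conjugate to the upper one with the negated parameter, up to squares. -/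
theorem conj_lower (c l : F) (hl : l ≠ 0) : ∃ m : S₂, m * upper c * m⁻¹ = lower (-(c * l ^ 2)) := by
  obtain ⟨m, m00, m01, m10, m11⟩ : ∃ m : S₂, m.1 0 0 = 0 ∧ m.1 0 1 = l⁻¹ ∧ m.1 1 0 = -l ∧
      m.1 1 1 = 0 :=
    ⟨⟨!![0, l⁻¹; -l, 0], by simp [Matrix.det_fin_two, hl]⟩, rfl, rfl, rfl, rfl⟩
  refine ⟨m, mul_inv_eq_iff_eq_mul.2 ?_⟩
  refine sl_ext ?_ ?_ ?_ ?_ <;>
    simp [sl_mul_apply, upper00, upper01, upper10, upper11, lower00, lower01, lower10, lower11,
      m00, m01, m10, m11]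
  field_simp

variable [Fintype F]

/-- Every element of order `p` of `PSL₂(pⁿ)` has a conjugate with which its product has order a
prime at which `p` has order `2n`. -/
theorem psl2_pair_odd {p n : ℕ} [hp : Fact p.Prime] [CharP F p] (hp2 : p ≠ 2)
    (hF : Fintype.card F = p ^ n) (hn : 2 ≤ n) :
    ∃ r : ℕ, r.Prime ∧ r ≠ p ∧ (∀ k, 0 < k → r ∣ p ^ k - 1 → 2 * n ≤ k) ∧
      ∀ u : ProjectiveSpecialLinearGroup (Fin 2) F, u ^ p = 1 → u ≠ 1 →
        ∃ g, r ∣ orderOf (u * (g * u * g⁻¹)) := by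
  obtain ⟨r, hr, hr2, hrp, hrd, hmin⟩ := exists_primitive_odd hp.out hp2 hn
  haveI := Fact.mk hr
  refine ⟨r, hr, hrp, hmin, fun u hu hu1 => ?_⟩
  set π : S₂ →* ProjectiveSpecialLinearGroup (Fin 2) F := QuotientGroup.mk' _ with hπ
  have hker : ∀ {x}, π x = 1 ↔ x ∈ Subgroup.center S₂ := QuotientGroup.eq_one_iff _
  have hcen : ∀ x ∈ Subgroup.center S₂, x.1 0 1 = 0 ∧ x.1 1 0 = 0 ∧ x.1 0 0 = x.1 1 1 := by
    intro x hx
    have h1 := congrArg Subtype.val (Subgroup.mem_center_iff.1 hx (upper 1))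
    have h2 := congrArg Subtype.val (Subgroup.mem_center_iff.1 hx (lower 1))
    have a00 := congrFun (congrFun h1 0) 0
    have a01 := congrFun (congrFun h1 0) 1
    have b00 := congrFun (congrFun h2 0) 0
    simp [Matrix.mul_apply, Fin.sum_univ_two, upper00, upper01, upper10, upper11, lower00, lower01,
      lower10, lower11] at a00 a01 b00
    exact ⟨b00, a00, by linear_combination -a01⟩
  have hsq : ∀ c ∈ Subgroup.center S₂, c ^ 2 = 1 := by
    intro c hc
    obtain ⟨h01, h10, h11⟩ := hcen c hc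
    have hd := det_eq_one c
    rw [h01, h10, ← h11] at hd
    rw [pow_two]
    refine sl_ext ?_ ?_ ?_ ?_ <;> simp [sl_mul_apply, h01, h10, ← h11]
    · linear_combination hd
    · linear_combination hd
  obtain ⟨x₀, rfl⟩ := QuotientGroup.mk'_surjective (Subgroup.center S₂) u
  rw [← hπ] at hu hu1 ⊢
  have hpodd : 2 ∣ p + 1 := by
    have := hp.out.eq_two_or_odd.resolve_left hp2
    omega
  have hπx : π (x₀ ^ (p + 1)) = π x₀ := by rw [map_pow, pow_succ, hu, one_mul]
  have hxp : (x₀ ^ (p + 1)) ^ p = 1 := by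
    obtain ⟨j, hj⟩ := hpodd
    rw [← pow_mul, mul_comm, pow_mul, hj, pow_mul, hsq _ (hker.1 (by rw [map_pow, hu])), one_pow]
  rw [← hπx] at hu1 ⊢
  set x := x₀ ^ (p + 1)
  obtain ⟨P, c, hc0, hP⟩ := conj_upper_of_trace (trace_of_pow_char hxp)
    (fun h => hu1 (by rw [h, map_one]))
  -- an element of order `r` and its square root
  have hcard := CfsgLib.Classical.card_SL_mul hF 2 (by norm_num)
  rw [Fin.prod_univ_two] at hcard
  simp only [Fin.val_zero, Fin.val_one, pow_zero, pow_one] at hcard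
  have hdvd : r ∣ Nat.card S₂ := by
    have h1 : r ∣ (p ^ n - 1) * Nat.card S₂ := by
      rw [hcard, ← pow_mul, mul_comm n 2]
      exact hrd.mul_right _
    refine (hr.dvd_mul.1 h1).resolve_left fun h => ?_
    have := hmin n (by omega) h
    omega
  obtain ⟨d, hd⟩ := exists_prime_orderOf_dvd_card' (G := S₂) r hdvd
  have hdr : d ^ r = 1 := hd ▸ pow_orderOf_eq_one d
  obtain ⟨i, hi⟩ : 2 ∣ r + 1 := by
    have := hr.eq_two_or_odd.resolve_left hr2
    omega
  set e := d ^ i with he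
  have hee : e * e = d := by rw [he, ← pow_add, ← two_mul, ← hi, pow_succ, hdr, one_mul]
  set z := e.1 0 0 + e.1 1 1 with hz
  have hed := det_eq_one e
  have htr : d.1 0 0 + d.1 1 1 = z ^ 2 - 2 := by
    rw [← hee, sl_mul_apply, sl_mul_apply, hz]
    linear_combination -2 * hed
  have hz0 : z ≠ 0 := by
    intro hz0
    have hd4 : d ^ 2 = 1 := by
      have h00 : e.1 1 1 = -e.1 0 0 := by linear_combination hz0
      rw [← hee, pow_two]
      have hee' : e * e ∈ Subgroup.center S₂ := by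
        refine Subgroup.mem_center_iff.2 fun y => ?_
        refine sl_ext ?_ ?_ ?_ ?_ <;>
          simp [sl_mul_apply, h00]
        · ring
        · ring
        · ring
        · ring
      have := hsq _ hee'
      rwa [pow_two] at this
    have := Nat.le_of_dvd (by norm_num) (hd ▸ orderOf_dvd_of_pow_eq_one hd4)
    have := hr.two_le
    omega
  obtain ⟨m, hm⟩ := conj_lower c (z / c) (div_ne_zero hz0 hc0)
  refine ⟨π (P * m * P⁻¹), ?_⟩
  have hprod : π x * (π (P * m * P⁻¹) * π x * (π (P * m * P⁻¹))⁻¹) =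
      π P * π (upper c * lower (-(c * (z / c) ^ 2))) * (π P)⁻¹ := by
    rw [← hm, ← hP]; simp only [map_mul, map_inv]; group
  rw [hprod, orderOf_eq_orderOf_iff.2 (fun j => by rw [conj_pow, conj_eq_one_iff] :
    ∀ j : ℕ, (π P * π (upper c * lower (-(c * (z / c) ^ 2))) * (π P)⁻¹) ^ j = 1 ↔
      π (upper c * lower (-(c * (z / c) ^ 2))) ^ j = 1)]
  obtain ⟨ε, hε, ε01, ε10, ε00, ε11⟩ : ∃ ε : S₂, ε ∈ Subgroup.center S₂ ∧
      ε.1 0 1 = 0 ∧ ε.1 1 0 = 0 ∧ ε.1 0 0 = -1 ∧ ε.1 1 1 = -1 := by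
    obtain ⟨ε, a, b, c, d⟩ : ∃ ε : S₂, ε.1 0 1 = 0 ∧ ε.1 1 0 = 0 ∧ ε.1 0 0 = -1 ∧ ε.1 1 1 = -1 :=
      ⟨⟨!![-1, 0; 0, -1], by simp [Matrix.det_fin_two]⟩, rfl, rfl, rfl, rfl⟩
    refine ⟨ε, Subgroup.mem_center_iff.2 fun y => ?_, a, b, c, d⟩
    refine sl_ext ?_ ?_ ?_ ?_ <;> simp [sl_mul_apply, a, b, c, d]
  set M := upper c * lower (-(c * (z / c) ^ 2)) with hM
  have hπM : π (ε * M) = π M := by rw [map_mul, hker.2 hε, one_mul]
  have hns : ∀ y : S₂, (y = d ∨ y = ε * M) →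
      ¬ (y.1 0 1 = 0 ∧ y.1 1 0 = 0 ∧ y.1 0 0 = y.1 1 1) := by
    rintro y (hy | rfl) ⟨h01, h10, h11⟩
    · rw [hy] at h01 h10 h11
      have hdd := det_eq_one d
      rw [h01, h10, ← h11] at hdd
      have hd2 : d ^ 2 = 1 := by
        rw [pow_two]
        refine sl_ext ?_ ?_ ?_ ?_ <;> simp [sl_mul_apply, h01, h10, ← h11]
        · linear_combination hdd
        · linear_combination hdd
      have := Nat.le_of_dvd (by norm_num) (hd ▸ orderOf_dvd_of_pow_eq_one hd2)
      have := hr.two_le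
      omega
    · simp [hM, sl_mul_apply, upper00, upper01, upper10, upper11, lower00, lower01, lower10, lower11,
        ε01, ε10, ε00, ε11] at h01
      exact hc0 h01
  have hord : orderOf (ε * M) = r := by
    rw [orderOf_eq_of_trace (hns _ (Or.inr rfl)) (hns _ (Or.inl rfl)) ?_, hd]
    rw [htr]
    simp [hM, sl_mul_apply, upper00, upper01, upper10, upper11, lower00, lower01, lower10, lower11,
      ε01, ε10, ε00, ε11]
    field_simp
    ring
  refine dvd_of_eq (orderOf_eq_prime ?_ ?_).symm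
  · rw [← hπM, ← map_pow, ← hord, pow_orderOf_eq_one, map_one]
  · intro h1
    exact hns _ (Or.inr rfl) (hcen _ (hker.1 (hπM.trans h1)))

end CfsgLib.LocalEven.FaithfulBound
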